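import Mathlib.Topology.Maps.Proper.Basic
import Mathlib.Topology.Connected.Clopen
import Mathlib.Data.Set.Card

/-! Connected components in a tower of finite open closed covers of a connected space. -/

namespace ConnBC

open Set Topology

universe u v w

variable {T : Type u} [TopologicalSpace T] [PreconnectedSpace T]

/-- In a finite open closed cover of a connected space every point has a least clopen neighbourhood. -/
theorem exists_min_clopen {Y : Type v} [TopologicalSpace Y] (q : Y → T) (ho : IsOpenMap q)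
    (hc : IsClosedMap q) (hfin : ∀ t, (q ⁻¹' {t}).Finite) (y : Y) :
    ∃ Q : Set Y, IsClopen Q ∧ y ∈ Q ∧ q '' Q = univ ∧ ∀ U, IsClopen U → y ∈ U → Q ⊆ U := by
  classical
  have hsurj : ∀ U : Set Y, IsClopen U → U.Nonempty → q '' U = univ := fun U hU hne =>
    IsClopen.eq_univ ⟨hc _ hU.1, ho _ hU.2⟩ (hne.image q)
  let t := q y
  let n : Set Y → ℕ := fun U => (U ∩ q ⁻¹' {t}).ncard
  obtain ⟨Q, ⟨hQ, hyQ⟩, hmin⟩ := (InvImage.wf n wellFounded_lt).has_min {U | IsClopen U ∧ y ∈ U} ⟨univ, isClopen_univ, trivial⟩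
  refine ⟨Q, hQ, hyQ, hsurj Q hQ ⟨y, hyQ⟩, fun U hU hyU z hz => ?_⟩
  by_contra hzU
  have hD : (Q \ U).Nonempty := ⟨z, hz, hzU⟩
  obtain ⟨w, hw, hwt⟩ : t ∈ q '' (Q \ U) := by rw [hsurj _ (hQ.diff hU) hD]; trivial
  refine hmin (Q ∩ U) ⟨hQ.inter hU, hyQ, hyU⟩ (show (Q ∩ U ∩ q ⁻¹' {t}).ncard < (Q ∩ q ⁻¹' {t}).ncard from ?_)
  refine Set.ncard_lt_ncard ⟨fun a ha => ⟨ha.1.1, ha.2⟩, fun h => hw.2 ?_⟩ ((hfin t).subset inter_subset_right)
  exact (h ⟨hw.1, hwt⟩).1.2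

variable {Z : Type v} [TopologicalSpace Z] {π : Z → T}

/-- A tower of covers. -/
structure Tower (π : Z → T) (ι : Type w) [Preorder ι] where
  Y : ι → Type v
  top : ∀ i, TopologicalSpace (Y i)
  p : ∀ i, Z → Y i
  q : ∀ i, Y i → T
  r : ∀ {i j}, i ≤ j → Y j → Y i
  qp : ∀ i z, q i (p i z) = π z
  rp : ∀ {i j} (h : i ≤ j) z, r h (p j z) = p i z
  p_proper : ∀ i, IsProperMap (p i)
  p_surj : ∀ i, Function.Surjective (p i)
  q_cont : ∀ i, Continuous (q i)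
  q_open : ∀ i, IsOpenMap (q i)
  q_closed : ∀ i, IsClosedMap (q i)
  q_fin : ∀ i t, (q i ⁻¹' {t}).Finite
  q_incomp : ∀ i (y y' : Y i), y' ∈ closure {y} → q i y' = q i y → y' = y
  r_cont : ∀ {i j} (h : i ≤ j), Continuous (r h)
  r_open : ∀ {i j} (h : i ≤ j), IsOpenMap (r h)
  sep : ∀ z w, (∀ i, p i z = p i w) → z = w
  π_proper : IsProperMap π

attribute [instance] Tower.top

variable {ι : Type w} [Preorder ι] [IsDirected ι (· ≤ ·)] [Nonempty ι] (W : Tower π ι)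

include W in
theorem Tower.image_connectedComponent (hbasis : ∀ t : T, ∃ V : Set T, IsOpen V ∧ t ∈ V ∧ IsCompact V) (x : Z) :
    π '' connectedComponent x = univ := by
  classical
  choose Q hQ hxQ hQimg hQmin using fun i =>
    exists_min_clopen (W.q i) (W.q_open i) (W.q_closed i) (W.q_fin i) (W.p i x)
  -- transition images
  have hrQ : ∀ {i j} (h : i ≤ j), W.r h '' Q j = Q i := by
    intro i j h
    apply Subset.antisymm
    · rintro _ ⟨y, hy, rfl⟩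
      exact hQmin j _ ((hQ i).preimage (W.r_cont h)) (show W.r h (W.p j x) ∈ Q i by rw [W.rp]; exact hxQ i) hy
    · refine hQmin i _ ⟨?_, W.r_open h _ (hQ j).2⟩ ⟨W.p j x, hxQ j, W.rp h x⟩
      have : W.r h '' Q j = W.p i '' (W.p j ⁻¹' Q j) := by
        conv_lhs => rw [← image_preimage_eq (Q j) (W.p_surj j), image_image]
        simp only [W.rp]
      rw [this]
      exact (W.p_proper i).isClosedMap _ ((hQ j).1.preimage (W.p_proper j).continuous)
  let Qi : Set Z := ⋂ i, W.p i ⁻¹' Q i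
  have hQicl : IsClosed Qi := isClosed_iInter fun i => (hQ i).1.preimage (W.p_proper i).continuous
  have hxQi : x ∈ Qi := mem_iInter.mpr fun i => hxQ i
  have hanti : ∀ {i j}, i ≤ j → W.p j ⁻¹' Q j ⊆ W.p i ⁻¹' Q i := fun h z hz => by
    show W.p _ z ∈ Q _
    rw [← W.rp h z, ← hrQ h]
    exact ⟨_, hz, rfl⟩
  have hQsurj : ∀ i, W.p i '' Qi = Q i := by
    intro i
    refine Subset.antisymm (image_subset_iff.mpr (iInter_subset _ i)) fun y hy => ?_
    have hK : IsCompact (W.p i ⁻¹' {y}) := (W.p_proper i).isCompact_preimage isCompact_singleton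
    by_contra hne
    obtain ⟨j, hj⟩ := hK.elim_directed_family_closed (fun j => W.p j ⁻¹' Q j)
      (fun j => (hQ j).1.preimage (W.p_proper j).continuous)
      (eq_empty_of_forall_notMem fun z hz => hne ⟨z, hz.2, hz.1⟩)
      (fun a b => let ⟨c, hac, hbc⟩ := exists_ge_ge a b; ⟨c, hanti hac, hanti hbc⟩)
    obtain ⟨c, hic, hjc⟩ := exists_ge_ge i j
    obtain ⟨y', hy', rfl⟩ : y ∈ W.r hic '' Q c := by rw [hrQ hic]; exact hy
    obtain ⟨z, rfl⟩ := W.p_surj c y'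
    exact (eq_empty_iff_forall_notMem.mp hj) z ⟨(W.rp hic z).symm, hanti hjc hy'⟩
  obtain ⟨i₀⟩ := ‹Nonempty ι›
  have hπQ : π '' Qi = univ := by
    rw [← hQimg i₀, ← hQsurj i₀, image_image]
    simp only [W.qp]
  suffices hconn : IsPreconnected Qi by
    exact eq_univ_of_subset (image_mono (hconn.subset_connectedComponent hxQi)) hπQ
  rw [isPreconnected_closed_iff]
  intro t t' ht ht' hsub htne ht'ne
  by_contra hdis
  let U := Qi ∩ t
  let U' := Qi ∩ t'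
  have hUcl : IsClosed U := hQicl.inter ht
  have hU'cl : IsClosed U' := hQicl.inter ht'
  have hUU' : ∀ u ∈ U, u ∉ U' := fun u hu hu' => hdis ⟨u, hu.1, hu.2, hu'.2⟩
  have hcov : ∀ i, Q i ⊆ W.p i '' U ∪ W.p i '' U' := by
    intro i y hy
    rw [← hQsurj i] at hy
    obtain ⟨z, hz, rfl⟩ := hy
    exact (hsub hz).elim (fun h => Or.inl ⟨z, ⟨hz, h⟩, rfl⟩) (fun h => Or.inr ⟨z, ⟨hz, h⟩, rfl⟩)
  have hsubQ : ∀ i {s : Set Z}, s ⊆ Qi → W.p i '' s ⊆ Q i := fun i s hs =>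
    (image_mono hs).trans (hQsurj i).le
  -- disjointness at a finite level over a compact open
  have hfinite : ∀ V : Set T, IsCompact V → ∃ M, ∀ u ∈ U, π u ∈ V → W.p M u ∉ W.p M '' U' := by
    intro V hV
    by_contra hcon
    push Not at hcon
    have hK : IsCompact (π ⁻¹' V ∩ U) := (W.π_proper.isCompact_preimage hV).inter_right hUcl
    have hne : ((π ⁻¹' V ∩ U) ∩ ⋂ M, W.p M ⁻¹' (W.p M '' U')).Nonempty := by
      rw [Set.nonempty_iff_ne_empty]
      intro hemp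
      obtain ⟨M, hM⟩ := hK.elim_directed_family_closed _
        (fun M => ((W.p_proper M).isClosedMap _ hU'cl).preimage (W.p_proper M).continuous) hemp
        (fun a b => let ⟨c, hac, hbc⟩ := exists_ge_ge a b
          ⟨c, fun z ⟨w, hw, e⟩ => ⟨w, hw, by rw [← W.rp hac w, e, W.rp]⟩,
            fun z ⟨w, hw, e⟩ => ⟨w, hw, by rw [← W.rp hbc w, e, W.rp]⟩⟩)
      obtain ⟨u, huU, huV, hu⟩ := hcon M
      exact (eq_empty_iff_forall_notMem.mp hM) u ⟨⟨huV, huU⟩, hu⟩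
    obtain ⟨u, ⟨-, huU⟩, hu⟩ := hne
    rw [mem_iInter] at hu
    have hΦ : IsCompact (π ⁻¹' {π u}) := W.π_proper.isCompact_preimage isCompact_singleton
    let C : ι → Set Z := fun M => U' ∩ W.p M ⁻¹' closure {W.p M u}
    have hne2 : (π ⁻¹' {π u} ∩ ⋂ M, C M).Nonempty := by
      rw [Set.nonempty_iff_ne_empty]
      intro hemp
      obtain ⟨M, hM⟩ := hΦ.elim_directed_family_closed C
        (fun M => hU'cl.inter (isClosed_closure.preimage (W.p_proper M).continuous)) hemp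
        (fun a b => by
          obtain ⟨c, hac, hbc⟩ := exists_ge_ge a b
          refine ⟨c, fun z hz => ⟨hz.1, ?_⟩, fun z hz => ⟨hz.1, ?_⟩⟩
          · show W.p a z ∈ closure {W.p a u}
            have := image_closure_subset_closure_image (W.r_cont hac) ⟨_, hz.2, rfl⟩
            rwa [image_singleton, W.rp, W.rp] at this
          · show W.p b z ∈ closure {W.p b u}
            have := image_closure_subset_closure_image (W.r_cont hbc) ⟨_, hz.2, rfl⟩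
            rwa [image_singleton, W.rp, W.rp] at this)
      obtain ⟨w, hw, e⟩ := hu M
      refine (eq_empty_iff_forall_notMem.mp hM) w ⟨?_, hw, ?_⟩
      · show π w = π u
        rw [← W.qp M w, ← W.qp M u, e]
      · show W.p M w ∈ closure {W.p M u}
        rw [e]; exact subset_closure rfl
    obtain ⟨w, hwu, hw⟩ := hne2
    rw [mem_iInter] at hw
    have : w = u := W.sep w u fun M => W.q_incomp M _ _ (hw M).2 (by rw [W.qp, W.qp]; exact hwu)
    exact hUU' u huU (this ▸ (hw i₀).1)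
  -- the bad locus at level `i`
  let S : ι → Set T := fun i => W.q i '' (W.p i '' U ∩ W.p i '' U')
  have hSclopen : ∀ i, IsClopen (S i) := by
    intro i
    refine ⟨W.q_closed i _ (((W.p_proper i).isClosedMap _ hUcl).inter ((W.p_proper i).isClosedMap _ hU'cl)),
      isOpen_iff_forall_mem_open.mpr fun t₁ ht₁ => ?_⟩
    obtain ⟨V, hVo, hVt, hVc⟩ := hbasis t₁
    obtain ⟨M₀, hM₀⟩ := hfinite V hVc
    obtain ⟨M, hiM, hM₀M⟩ := exists_ge_ge i M₀
    have hdisM : ∀ y, W.q M y ∈ V → y ∈ W.p M '' U → y ∉ W.p M '' U' := by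
      rintro _ hV' ⟨u, hu, rfl⟩ ⟨w, hw, e⟩
      rw [W.qp] at hV'
      exact hM₀ u hu hV' ⟨w, hw, by rw [← W.rp hM₀M w, e, W.rp]⟩
    let A := W.p M '' U ∩ W.q M ⁻¹' V
    let B := W.p M '' U' ∩ W.q M ⁻¹' V
    have hA : IsOpen A := by
      rw [show A = (Q M \ W.p M '' U') ∩ W.q M ⁻¹' V from ?_]
      · exact ((hQ M).2.sdiff ((W.p_proper M).isClosedMap _ hU'cl)).inter (hVo.preimage (W.q_cont M))
      ext y
      refine ⟨fun ⟨h1, h2⟩ => ⟨⟨hsubQ M inter_subset_left h1, hdisM y h2 h1⟩, h2⟩, fun ⟨⟨h1, h1'⟩, h2⟩ =>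
        ⟨(hcov M h1).resolve_right h1', h2⟩⟩
    have hB : IsOpen B := by
      rw [show B = (Q M \ W.p M '' U) ∩ W.q M ⁻¹' V from ?_]
      · exact ((hQ M).2.sdiff ((W.p_proper M).isClosedMap _ hUcl)).inter (hVo.preimage (W.q_cont M))
      ext y
      refine ⟨fun ⟨h1, h2⟩ => ⟨⟨hsubQ M inter_subset_left h1, fun h => hdisM y h2 h h1⟩, h2⟩, fun ⟨⟨h1, h1'⟩, h2⟩ =>
        ⟨(hcov M h1).resolve_left h1', h2⟩⟩
    refine ⟨W.q i '' (W.r hiM '' A ∩ W.r hiM '' B), ?_,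
      W.q_open i _ ((W.r_open hiM _ hA).inter (W.r_open hiM _ hB)), ?_⟩
    · apply image_mono
      rintro y ⟨⟨a, ⟨⟨u, hu, rfl⟩, -⟩, rfl⟩, ⟨b, ⟨⟨w, hw, rfl⟩, -⟩, e⟩⟩
      exact ⟨⟨u, hu, (W.rp hiM u).symm⟩, ⟨w, hw, by rw [← e, W.rp]⟩⟩
    · obtain ⟨y, ⟨⟨u, hu, rfl⟩, ⟨w, hw, e⟩⟩, rfl⟩ := ht₁
      have huV : π u ∈ V := by rwa [W.qp] at hVt
      have hwV : π w ∈ V := by rw [← W.qp i w, e, W.qp]; exact huV
      refine ⟨W.p i u, ⟨⟨W.p M u, ⟨⟨u, hu, rfl⟩, ?_⟩, W.rp hiM u⟩,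
        ⟨W.p M w, ⟨⟨w, hw, rfl⟩, ?_⟩, by rw [W.rp, e]⟩⟩, rfl⟩
      · show W.q M _ ∈ V
        rw [W.qp]; exact huV
      · show W.q M _ ∈ V
        rw [W.qp]; exact hwV
  -- globally disjoint at some level
  obtain ⟨V, -, hVt, hVc⟩ := hbasis (π x)
  obtain ⟨M, hM⟩ := hfinite V hVc
  have hSM : S M = ∅ := by
    by_contra hne
    have := IsClopen.eq_univ (hSclopen M) (nonempty_iff_ne_empty.mpr hne)
    obtain ⟨y, ⟨⟨u, hu, rfl⟩, hy'⟩, e⟩ : π x ∈ S M := this ▸ mem_univ _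
    exact hM u hu (by rw [← W.qp M u, e]; exact hVt) hy'
  have hdisj : ∀ y, y ∈ W.p M '' U → y ∉ W.p M '' U' := fun y h h' =>
    (eq_empty_iff_forall_notMem.mp hSM) _ ⟨y, ⟨h, h'⟩, rfl⟩
  have hAclopen : ∀ {s s' : Set Z}, IsClosed s → IsClosed s' → s ⊆ Qi → (Q M ⊆ W.p M '' s ∪ W.p M '' s') →
      (∀ y, y ∈ W.p M '' s → y ∉ W.p M '' s') → IsClopen (W.p M '' s) := by
    intro s s' hs hs' hsQ hc hd
    refine ⟨(W.p_proper M).isClosedMap _ hs, ?_⟩
    rw [show W.p M '' s = Q M \ W.p M '' s' from Subset.antisymm (fun y h => ⟨hsubQ M hsQ h, hd y h⟩)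
      fun y h => (hc h.1).resolve_right h.2]
    exact (hQ M).2.sdiff ((W.p_proper M).isClosedMap _ hs')
  obtain ⟨u, hu1, hu2⟩ := htne
  obtain ⟨w, hw1, hw2⟩ := ht'ne
  rcases hsub hxQi with hx | hx
  · have h := hQmin M _ (hAclopen hUcl hU'cl inter_subset_left (hcov M) hdisj) ⟨x, ⟨hxQi, hx⟩, rfl⟩
    exact hdisj _ (h (hsubQ M inter_subset_left ⟨w, ⟨hw1, hw2⟩, rfl⟩)) ⟨w, ⟨hw1, hw2⟩, rfl⟩
  · have h := hQmin M _ (hAclopen hU'cl hUcl inter_subset_left ((hcov M).trans (union_comm _ _).le)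
      fun y h h' => hdisj y h' h) ⟨x, ⟨hxQi, hx⟩, rfl⟩
    exact hdisj _ ⟨u, ⟨hu1, hu2⟩, rfl⟩ (h (hsubQ M inter_subset_left ⟨u, ⟨hu1, hu2⟩, rfl⟩))

end ConnBC
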