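import Groth.Agent.ConnBC.Tensor
import Groth.Agent.ConnBC.Tower
import Mathlib.AlgebraicGeometry.Geometrically.Connected
import Mathlib.AlgebraicGeometry.Morphisms.QuasiFinite
import Mathlib.AlgebraicGeometry.Morphisms.Finite
import Mathlib.AlgebraicGeometry.PullbackCarrier

/-! Connected components under extension of the ground field. -/

namespace ConnBC

open CategoryTheory Limits AlgebraicGeometry TensorProduct Topology

universe u

variable {k : Type u} [Field k] {X : Scheme.{u}} (f : X ⟶ Spec (CommRingCat.of k))

theorem connectedSpace_spec {A : Type u} [CommRing A] [Nontrivial A] (h : TrivIdem A) :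
    ConnectedSpace (PrimeSpectrum A) := by
  have : PreconnectedSpace (PrimeSpectrum A) := by
    rw [preconnectedSpace_iff_clopen]
    intro s hs
    obtain ⟨e, he, rfl⟩ := PrimeSpectrum.isClopen_iff.mp hs
    rcases h e he with rfl | rfl
    · left; rw [PrimeSpectrum.basicOpen_zero]; rfl
    · right; rw [PrimeSpectrum.basicOpen_one]; rfl
  exact ⟨inferInstance⟩

section Field

variable (K : Type u) [Field K] [Algebra k K]

theorem geometricallyConnected_specMap (hk : algebraicClosure k K = ⊥) :
    GeometricallyConnected (Spec.map (CommRingCat.ofHom (algebraMap k K))) := by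
  refine ⟨geometrically_iff_of_isClosedUnderIsomorphisms.mpr fun F _ y => ?_⟩
  obtain ⟨φ, rfl⟩ := Spec.map_surjective y
  algebraize [φ.hom]
  have : Nontrivial (K ⊗[k] F) :=
    Algebra.TensorProduct.nontrivial_of_algebraMap_injective_of_flat_left (R := k) (A := K) (B := F) (algebraMap k F).injective
  have := connectedSpace_spec (trivIdem_tensor hk F)
  exact (pullbackSpecIso k K F).hom.homeomorph.connectedSpace_iff.mpr this

/-- The base change to `K`. -/
noncomputable abbrev BC : Scheme.{u} := pullback f (Spec.map (CommRingCat.ofHom (algebraMap k K)))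

/-- The projection. -/
noncomputable abbrev pr : BC f K ⟶ X := pullback.fst _ _

variable {K} {L : Type u} [Field L] [Algebra k L]

/-- Map between base changes. -/
noncomputable def chg (φ : L →ₐ[k] K) : BC f K ⟶ BC f L :=
  pullback.lift (pullback.fst _ _) (pullback.snd _ _ ≫ Spec.map (CommRingCat.ofHom φ.toRingHom)) (by
    rw [Category.assoc, ← Spec.map_comp, ← CommRingCat.ofHom_comp,
      show φ.toRingHom.comp (algebraMap k L) = algebraMap k K from φ.comp_algebraMap, pullback.condition])

@[reassoc (attr := simp)]
theorem chg_fst (φ : L →ₐ[k] K) : chg f φ ≫ pr f L = pr f K := pullback.lift_fst _ _ _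

@[reassoc (attr := simp)]
theorem chg_snd (φ : L →ₐ[k] K) :
    chg f φ ≫ pullback.snd _ _ = pullback.snd _ _ ≫ Spec.map (CommRingCat.ofHom φ.toRingHom) :=
  pullback.lift_snd _ _ _

theorem isPullback_chg (φ : L →ₐ[k] K) :
    IsPullback (chg f φ) (pullback.snd _ _) (pullback.snd _ _) (Spec.map (CommRingCat.ofHom φ.toRingHom)) := by
  refine IsPullback.of_right (h₁₂ := pr f L) (v₁₃ := f) (h₂₂ := Spec.map (CommRingCat.ofHom (algebraMap k L)))
    ?_ (chg_snd f φ) (IsPullback.of_hasPullback f (Spec.map (CommRingCat.ofHom (algebraMap k L))))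
  rw [chg_fst, ← Spec.map_comp, ← CommRingCat.ofHom_comp,
    show φ.toRingHom.comp (algebraMap k L) = algebraMap k K from φ.comp_algebraMap]
  exact IsPullback.of_hasPullback _ _

theorem chg_comp {M : Type u} [Field M] [Algebra k M] (φ : L →ₐ[k] K) (ψ : M →ₐ[k] L) :
    chg f φ ≫ chg f ψ = chg f (φ.comp ψ) := by
  apply pullback.hom_ext
  · rw [Category.assoc, chg_fst, chg_fst, chg_fst]
  · rw [Category.assoc, chg_snd, chg_snd_assoc, chg_snd, ← Spec.map_comp]
    rfl

theorem chg_universallyOpen (φ : L →ₐ[k] K) : UniversallyOpen (chg f φ) :=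
  MorphismProperty.of_isPullback (isPullback_chg f φ).flip
    (inferInstance : UniversallyOpen (Spec.map (CommRingCat.ofHom φ.toRingHom)))

theorem chg_surjective (φ : L →ₐ[k] K) : Surjective (chg f φ) :=
  MorphismProperty.of_isPullback (isPullback_chg f φ).flip
    (inferInstance : Surjective (Spec.map (CommRingCat.ofHom φ.toRingHom)))

theorem chg_isIntegralHom (φ : L →ₐ[k] K) (h : φ.toRingHom.IsIntegral) : IsIntegralHom (chg f φ) :=
  MorphismProperty.of_isPullback (isPullback_chg f φ).flip
    ((IsIntegralHom.SpecMap_iff (φ := CommRingCat.ofHom φ.toRingHom)).mpr h)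

theorem chg_geometricallyConnected (φ : L →ₐ[k] K)
    (h : GeometricallyConnected (Spec.map (CommRingCat.ofHom φ.toRingHom))) : GeometricallyConnected (chg f φ) :=
  MorphismProperty.of_isPullback (isPullback_chg f φ).flip h

end Field

/-- A restriction of a map. -/
def restr {A B : Type*} (g : A → B) {s : Set B} {s' : Set A} (h : s' = g ⁻¹' s) (a : s') : s :=
  ⟨g a, h.le a.2⟩

theorem restr_proper {A B : Type*} [TopologicalSpace A] [TopologicalSpace B] {g : A → B} {s : Set B}
    {s' : Set A} (h : s' = g ⁻¹' s) (hg : IsProperMap g) : IsProperMap (restr g h) := by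
  subst h; exact hg.restrictPreimage s

theorem restr_open {A B : Type*} [TopologicalSpace A] [TopologicalSpace B] {g : A → B} {s : Set B}
    {s' : Set A} (h : s' = g ⁻¹' s) (hg : IsOpenMap g) : IsOpenMap (restr g h) := by
  subst h; exact hg.restrictPreimage s

theorem restr_surjective {A B : Type*} {g : A → B} {s : Set B} {s' : Set A} (h : s' = g ⁻¹' s)
    (hg : Function.Surjective g) : Function.Surjective (restr g h) := by
  subst h
  intro b
  obtain ⟨a, ha⟩ := hg b.1
  exact ⟨⟨a, show g a ∈ s from ha ▸ b.2⟩, Subtype.ext ha⟩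

section Chart

variable (R : Type u) [CommRing R] [Algebra k R] (ι : Spec (CommRingCat.of R) ⟶ X)
  (hι : Spec.map (CommRingCat.ofHom (algebraMap k R)) = ι ≫ f) (A : Type u) [Field A] [Algebra k A]

/-- The chart of the base change over an affine chart. -/
noncomputable def chart : Spec (CommRingCat.of (R ⊗[k] A)) ⟶ BC f A :=
  (pullbackSpecIso k R A).inv ≫ pullback.map _ _ f _ ι (𝟙 _) (𝟙 _) (by rw [Category.comp_id, hι]) (by simp)

theorem chart_fst : chart f R ι hι A ≫ pr f A =
    Spec.map (CommRingCat.ofHom (Algebra.TensorProduct.includeLeftRingHom (R := k) (A := R) (B := A))) ≫ ι := by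
  rw [chart, Category.assoc, pullback.map, pullback.lift_fst, pullbackSpecIso_inv_fst_assoc]

theorem chart_snd : chart f R ι hι A ≫ pullback.snd _ _ =
    Spec.map (CommRingCat.ofHom ((Algebra.TensorProduct.includeRight (R := k) (A := R) (B := A)).toRingHom)) := by
  rw [chart, Category.assoc, pullback.map, pullback.lift_snd, Category.comp_id, pullbackSpecIso_inv_snd]
  rfl

instance [IsOpenImmersion ι] : IsOpenImmersion (chart f R ι hι A) := by
  unfold chart; infer_instance

theorem range_chart {x : BC f A} (hx : pr f A x ∈ Set.range ι) : x ∈ Set.range (chart f R ι hι A) := by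
  have : x ∈ Set.range (pullback.map (Spec.map (CommRingCat.ofHom (algebraMap k R)))
      (Spec.map (CommRingCat.ofHom (algebraMap k A))) f _ ι (𝟙 _) (𝟙 _)
      (by rw [Category.comp_id, hι]) (by simp)) := by
    rw [Scheme.Pullback.range_map]
    exact ⟨hx, ⟨_, rfl⟩⟩
  obtain ⟨y, rfl⟩ := this
  obtain ⟨y', rfl⟩ := (pullbackSpecIso k R A).inv.surjective y
  exact ⟨y', rfl⟩

theorem chart_chg {B : Type u} [Field B] [Algebra k B] (φ : B →ₐ[k] A) :
    chart f R ι hι A ≫ chg f φ =
      Spec.map (CommRingCat.ofHom (Algebra.TensorProduct.map (AlgHom.id k R) φ).toRingHom) ≫ chart f R ι hι B := by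
  apply pullback.hom_ext
  · rw [Category.assoc, Category.assoc, chg_fst, chart_fst, chart_fst, ← Category.assoc, ← Spec.map_comp]
    congr 2
    ext r
    simp
  · rw [Category.assoc, Category.assoc, chg_snd, chart_snd, reassoc_of% (chart_snd f R ι hι A), ← Spec.map_comp,
      ← Spec.map_comp]
    congr 1

end Chart

section Algebraic

variable (K : Type u) [Field K] [Algebra k K]

/-- Finitely generated subfields. -/
noncomputable abbrev lev (S : Finset K) : IntermediateField k K := IntermediateField.adjoin k (S : Set K)

/-- Points of the base change are separated by finite levels. -/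
theorem separated {z w : BC f K} (h : ∀ S : Finset K, chg f (lev K S).val z = chg f (lev K S).val w) : z = w := by
  classical
  have hfst : pr f K z = pr f K w := by
    have := congrArg (pr f (lev K (∅ : Finset K))) (h ∅)
    rwa [← Scheme.Hom.comp_apply, ← Scheme.Hom.comp_apply, chg_fst] at this
  obtain ⟨_, ⟨W, hW, rfl⟩, hzW, -⟩ := X.isBasis_affineOpens.exists_subset_of_mem_open
    (Set.mem_univ (pr f K z)) isOpen_univ
  replace hW : IsAffineOpen W := hW
  let R := Γ(X, W)
  obtain ⟨φ, hφ⟩ := Spec.map_surjective (hW.fromSpec ≫ f)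
  algebraize [φ.hom]
  have hφ' : Spec.map (CommRingCat.ofHom (algebraMap k R)) = hW.fromSpec ≫ f := hφ
  have hrange : ∀ x : BC f K, pr f K x ∈ W → x ∈ Set.range (chart f R hW.fromSpec hφ' K) := fun x hx =>
    range_chart f R hW.fromSpec hφ' K (by rw [hW.range_fromSpec]; exact hx)
  obtain ⟨P, rfl⟩ := hrange z hzW
  obtain ⟨P', rfl⟩ := hrange w (hfst ▸ hzW)
  congr 1
  apply PrimeSpectrum.ext
  have hdesc : ∀ a : R ⊗[k] K, ∃ S : Finset K, ∀ S', S ⊆ S' →
      a ∈ (Algebra.TensorProduct.map (AlgHom.id k R) (lev K S').val).range := by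
    intro a
    induction a using TensorProduct.induction_on with
    | zero => exact ⟨∅, fun _ _ => zero_mem _⟩
    | tmul r b =>
      exact ⟨{b}, fun S' hS' => ⟨r ⊗ₜ ⟨b, IntermediateField.subset_adjoin k _ (hS' (Finset.mem_singleton_self b))⟩,
        by simp⟩⟩
    | add a b ha hb =>
      obtain ⟨S, hS⟩ := ha; obtain ⟨T, hT⟩ := hb
      exact ⟨S ∪ T, fun S' h' => add_mem (hS S' (Finset.union_subset_left h')) (hT S' (Finset.union_subset_right h'))⟩
  ext a
  obtain ⟨S, hS⟩ := hdesc a
  obtain ⟨b, rfl⟩ := hS S le_rfl
  have := h S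
  rw [← Scheme.Hom.comp_apply, ← Scheme.Hom.comp_apply, chart_chg, Scheme.Hom.comp_apply, Scheme.Hom.comp_apply] at this
  have e := congrArg PrimeSpectrum.asIdeal ((chart f R hW.fromSpec hφ' (lev K S)).isOpenEmbedding.injective this)
  exact SetLike.ext_iff.mp e b

theorem image_connectedComponent_algebraic [Algebra.IsAlgebraic k K] (z₀ : BC f K) :
    pr f K '' connectedComponent z₀ = connectedComponent (pr f K z₀) := by
  classical
  let h := pr f K
  refine Set.Subset.antisymm (h.continuous.image_connectedComponent_subset z₀) ?_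
  let T : Set X := connectedComponent (h z₀)
  have hTcl : IsClosed T := isClosed_connectedComponent
  haveI : PreconnectedSpace T := Subtype.preconnectedSpace isPreconnected_connectedComponent
  let π : (h ⁻¹' T) → T := restr h rfl
  have hfin : ∀ S : Finset K, FiniteDimensional k (lev K S) := fun S =>
    IntermediateField.finiteDimensional_adjoin fun x _ => (Algebra.IsAlgebraic.isAlgebraic x).isIntegral
  have hint : IsIntegralHom h := MorphismProperty.pullback_fst f _ (IsIntegralHom.SpecMap_iff.mpr
    (algebraMap_isIntegral_iff.mpr inferInstance))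
  have hqfin : ∀ S : Finset K, IsFinite (pr f (lev K S)) := fun S =>
    MorphismProperty.pullback_fst f _ ((IsFinite.SpecMap_iff _).mpr (by
      exact RingHom.finite_algebraMap.mpr (hfin S)))
  have hchg : ∀ S, IsIntegralHom (chg f (lev K S).val) := fun S => chg_isIntegralHom f _ fun x =>
    IsIntegral.tower_top (R := k) (Algebra.IsAlgebraic.isAlgebraic x).isIntegral
  let inc : ∀ {S S' : Finset K}, S ≤ S' → (lev K S →ₐ[k] lev K S') := fun hle =>
    IntermediateField.inclusion (IntermediateField.adjoin.mono k _ _ (Finset.coe_subset.mpr hle))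
  have hpre : ∀ S, h ⁻¹' T = chg f (lev K S).val ⁻¹' (pr f (lev K S) ⁻¹' T) := fun S => by
    ext z
    show h z ∈ T ↔ pr f (lev K S) (chg f (lev K S).val z) ∈ T
    rw [← Scheme.Hom.comp_apply, chg_fst]
  have hpre' : ∀ {S S'} (hle : S ≤ S'), pr f (lev K S') ⁻¹' T = chg f (inc hle) ⁻¹' (pr f (lev K S) ⁻¹' T) :=
    fun {S S'} hle => by
    ext z
    show pr f (lev K S') z ∈ T ↔ pr f (lev K S) (chg f (inc hle) z) ∈ T
    rw [← Scheme.Hom.comp_apply, chg_fst]
  let W : Tower π (Finset K) :=
    { Y := fun S => ↥(pr f (lev K S) ⁻¹' T)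
      top := fun S => inferInstance
      p := fun S => restr (chg f (lev K S).val) (hpre S)
      q := fun S => restr (pr f (lev K S)) rfl
      r := fun hle => restr (chg f (inc hle)) (hpre' hle)
      qp := fun S z => Subtype.ext (by
        show pr f (lev K S) (chg f (lev K S).val z.1) = h z.1
        rw [← Scheme.Hom.comp_apply, chg_fst])
      rp := fun {S S'} hle z => Subtype.ext (by
        show chg f (inc hle) (chg f (lev K S').val z.1) = chg f (lev K S).val z.1
        rw [← Scheme.Hom.comp_apply, chg_comp]
        rfl)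
      p_proper := fun S => restr_proper _ (haveI := hchg S; Scheme.Hom.isProperMap _)
      p_surj := fun S => restr_surjective _ (chg_surjective f _).surj
      q_cont := fun S => (restr_proper _ (haveI := hqfin S; Scheme.Hom.isProperMap _)).continuous
      q_open := fun S => restr_open _ (Scheme.Hom.isOpenMap _)
      q_closed := fun S => (restr_proper _ (haveI := hqfin S; Scheme.Hom.isProperMap _)).isClosedMap
      q_fin := fun S t => by
        haveI := hqfin S
        refine Set.Finite.of_finite_image (((pr f (lev K S)).finite_preimage_singleton t.1).subset ?_)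
          Subtype.val_injective.injOn
        rintro _ ⟨y, hy, rfl⟩
        exact congrArg Subtype.val hy
      q_incomp := fun S y y' hcl hq => by
        haveI := hqfin S
        apply Subtype.ext
        have hd := ((pr f (lev (k := k) K S)).isDiscrete_preimage_singleton (pr f (lev (k := k) K S) y.1)).to_subtype
        rw [closure_subtype, Set.image_singleton] at hcl
        let a : ↥(pr f (lev (k := k) K S) ⁻¹' {pr f (lev (k := k) K S) y.1}) := ⟨y.1, rfl⟩
        let b : ↥(pr f (lev (k := k) K S) ⁻¹' {pr f (lev (k := k) K S) y.1}) := ⟨y'.1, congrArg Subtype.val hq⟩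
        have : b ∈ closure {a} := by
          rw [closure_subtype, Set.image_singleton]; exact hcl
        rw [closure_discrete] at this
        have hab : b = a := this
        have hval := congrArg Subtype.val hab
        exact hval
      r_cont := fun hle => (chg f (inc hle)).continuous.subtype_map fun z hz => (hpre' hle).le hz
      r_open := fun hle => restr_open _ (haveI := chg_universallyOpen f (inc hle); Scheme.Hom.isOpenMap _)
      sep := fun z w hzw => Subtype.ext (separated f K fun S => congrArg Subtype.val (hzw S))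
      π_proper := restr_proper _ (haveI := hint; Scheme.Hom.isProperMap h) }
  have hbasis : ∀ t : T, ∃ V : Set T, IsOpen V ∧ t ∈ V ∧ IsCompact V := fun t => by
    obtain ⟨_, ⟨U, hU, rfl⟩, htU, -⟩ := X.isBasis_affineOpens.exists_subset_of_mem_open (Set.mem_univ t.1) isOpen_univ
    refine ⟨Subtype.val ⁻¹' (U : Set X), U.2.preimage continuous_subtype_val, htU, ?_⟩
    rw [Subtype.isCompact_iff, Subtype.image_preimage_coe, Set.inter_comm]
    exact hU.isCompact.inter_right hTcl
  intro t ht
  let z₁ : (h ⁻¹' T) := ⟨z₀, mem_connectedComponent⟩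
  obtain ⟨z, hz, e⟩ : (⟨t, ht⟩ : T) ∈ π '' connectedComponent z₁ := by
    rw [W.image_connectedComponent hbasis z₁]; trivial
  exact ⟨z.1, continuous_subtype_val.image_connectedComponent_subset z₁ ⟨z, hz, rfl⟩, congrArg Subtype.val e⟩

end Algebraic

theorem image_connectedComponent (K : Type u) [Field K] [Algebra k K] (x : BC f K) :
    pr f K '' connectedComponent x = connectedComponent (pr f K x) := by
  let k' := algebraicClosure k K
  let g := chg f k'.val
  haveI : GeometricallyConnected g := chg_geometricallyConnected f _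
    (geometricallyConnected_specMap (k := k') K (algebraicClosure.algebraicClosure_eq_bot k K))
  haveI : UniversallyOpen g := chg_universallyOpen f _
  have hg : g '' connectedComponent x = connectedComponent (g x) := by
    refine Set.Subset.antisymm (g.continuous.image_connectedComponent_subset x) fun y hy => ?_
    have hc : _root_.IsConnected (g ⁻¹' connectedComponent (g x)) :=
      g.isConnected_preimage g.isOpenMap isConnected_connectedComponent isClosed_connectedComponent
    obtain ⟨z, rfl⟩ := g.surjective y
    exact ⟨z, hc.isPreconnected.subset_connectedComponent mem_connectedComponent hy, rfl⟩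
  haveI : Algebra.IsAlgebraic k k' := algebraicClosure.isAlgebraic k K
  have e := image_connectedComponent_algebraic f k' (g x)
  have hcomp : ∀ z, pr f k' (g z) = pr f K z := fun z => by
    rw [← Scheme.Hom.comp_apply, chg_fst]
  rw [← hg, Set.image_image, hcomp] at e
  simpa only [hcomp] using e

end ConnBC
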