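import Mathlib.RingTheory.TensorProduct.Free
import Mathlib.RingTheory.Flat.Basic
import Mathlib.RingTheory.Jacobson.Ring
import Mathlib.RingTheory.Polynomial.GaussLemma
import Mathlib.FieldTheory.AlgebraicClosure
import Mathlib.FieldTheory.PurelyInseparable.Basic
import Mathlib.FieldTheory.PrimitiveElement
import Mathlib.FieldTheory.IsAlgClosed.AlgebraicClosure
import Mathlib.LinearAlgebra.TensorProduct.Finiteness

/-! Idempotents in tensor products over a field that is algebraically closed in one factor. -/

namespace ConnBC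

open TensorProduct

universe u v w

/-- Only trivial idempotents. -/
def TrivIdem (A : Type*) [CommRing A] : Prop := ∀ e : A, IsIdempotentElem e → e = 0 ∨ e = 1

theorem TrivIdem.of_injective {A B : Type*} [CommRing A] [CommRing B] (f : A →+* B)
    (hf : Function.Injective f) (hB : TrivIdem B) : TrivIdem A := fun e he =>
  (hB (f e) (he.map f)).imp (fun h => hf (h.trans f.map_zero.symm)) (fun h => hf (h.trans f.map_one.symm))

theorem trivIdem_of_isDomain (A : Type*) [CommRing A] [IsDomain A] : TrivIdem A := fun e he => by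
  rcases mul_eq_zero.mp (show e * (e - 1) = 0 by rw [mul_sub, he.eq, mul_one, sub_self]) with h | h
  · exact Or.inl h
  · exact Or.inr (sub_eq_zero.mp h)

variable {k : Type u} [Field k]

section AlgClosed

variable [IsAlgClosed k] {R : Type v} [CommRing R] [IsDomain R] [Algebra k R] [Algebra.FiniteType k R]
  {A : Type w} [CommRing A] [Algebra k A]

theorem trivIdem_tensor_finiteType (hA : TrivIdem A) : TrivIdem (R ⊗[k] A) := by
  classical
  intro e he
  let b := Module.Free.chooseBasis k A
  let B := Algebra.TensorProduct.basis R b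
  let ψ : (R →ₐ[k] k) → (R ⊗[k] A →ₐ[k] A) := fun φ =>
    Algebra.TensorProduct.lift ((Algebra.ofId k A).comp φ) (AlgHom.id k A) fun _ _ => Commute.all _ _
  have hψ : ∀ φ z i, b.repr (ψ φ z) i = φ (B.repr z i) := by
    intro φ z i
    induction z using TensorProduct.induction_on with
    | zero => simp
    | tmul r a =>
      simp only [ψ, Algebra.TensorProduct.lift_tmul, AlgHom.coe_comp, Function.comp_apply, AlgHom.coe_id, id_eq,
        Algebra.ofId_apply, ← Algebra.smul_def, map_smul, Finsupp.smul_apply, smul_eq_mul, B,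
        Algebra.TensorProduct.basis_repr_tmul, Finsupp.mapRange_apply, map_mul, AlgHom.commutes,
        Algebra.algebraMap_self, RingHom.id_apply]
    | add x y hx hy => simp [hx, hy]
  have key : ∀ i j, B.repr e i * B.repr (e - 1) j = 0 := by
    intro i j
    have hjac : (Ideal.span {(0 : R)}).jacobson = (Ideal.span {(0 : R)}).radical := by
      haveI : IsJacobsonRing R := isJacobsonRing_of_finiteType (A := k)
      exact (Ideal.radical_eq_jacobson _).symm
    have hmem : B.repr e i * B.repr (e - 1) j ∈ (Ideal.span {(0 : R)}).jacobson := by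
      rw [Ideal.jacobson, Submodule.mem_sInf]
      rintro m ⟨-, hm⟩
      letI : Field (R ⧸ m) := Ideal.Quotient.field m
      haveI : Module.Finite k (R ⧸ m) := finite_of_finite_type_of_isJacobsonRing k (R ⧸ m)
      let eqv := AlgEquiv.ofBijective (Algebra.ofId k (R ⧸ m)) IsAlgClosed.algebraMap_bijective_of_isIntegral
      let φ : R →ₐ[k] k := eqv.symm.toAlgHom.comp (Ideal.Quotient.mkₐ k m)
      have hφ : ∀ r, φ r = 0 → r ∈ m := fun r hr => Ideal.Quotient.eq_zero_iff_mem.mp
        (eqv.symm.injective (hr.trans (map_zero eqv.symm).symm))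
      apply hφ
      rw [map_mul, ← hψ, ← hψ, map_sub, map_one]
      rcases hA _ (he.map (ψ φ)) with h | h <;> simp [h]
    rw [hjac] at hmem
    obtain ⟨n, hn⟩ := hmem
    rw [Ideal.span_singleton_eq_bot.mpr rfl, Ideal.mem_bot] at hn
    exact pow_eq_zero_iff (fun h => by simp [h] at hn) |>.mp hn
  by_cases h : ∀ i, B.repr e i = 0
  · exact Or.inl (B.repr.injective (Finsupp.ext fun i => by rw [h i]; simp))
  · push Not at h
    obtain ⟨i, hi⟩ := h
    exact Or.inr (sub_eq_zero.mp (B.repr.injective (Finsupp.ext fun j => by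
      rw [(mul_eq_zero.mp (key i j)).resolve_left hi]; simp)))

end AlgClosed

/-- Over an algebraically closed field, tensoring with a field keeps idempotents trivial. -/
theorem trivIdem_tensor_field [IsAlgClosed k] {A : Type w} [CommRing A] [Algebra k A]
    {F : Type v} [Field F] [Algebra k F] (hA : TrivIdem A) : TrivIdem (F ⊗[k] A) := by
  classical
  intro e he
  obtain ⟨S, hS⟩ := TensorProduct.exists_finset (R := k) e
  let R := Algebra.adjoin k ((S.image Prod.fst : Finset F) : Set F)
  haveI : Algebra.FiniteType k R := R.fg_iff_finiteType.mp (Subalgebra.fg_adjoin_finset _)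
  let f : R ⊗[k] A →ₐ[k] F ⊗[k] A := Algebra.TensorProduct.map R.val (AlgHom.id k A)
  have hf : Function.Injective f := fun x y hxy => by
    exact Module.Flat.rTensor_preserves_injective_linearMap (M := A) R.val.toLinearMap Subtype.val_injective hxy
  obtain ⟨z, rfl⟩ : ∃ z, f z = e := by
    refine ⟨∑ p ∈ S.attach, ⟨p.1.1, Algebra.subset_adjoin (Finset.mem_coe.mpr
      (Finset.mem_image_of_mem Prod.fst p.2))⟩ ⊗ₜ[k] p.1.2, ?_⟩
    rw [map_sum, hS, ← Finset.sum_attach S (fun p => p.1 ⊗ₜ[k] p.2)]
    exact Finset.sum_congr rfl fun p _ => by simp [f]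
  have hz : IsIdempotentElem z := hf (by rw [map_mul]; exact he.eq)
  exact (trivIdem_tensor_finiteType hA z hz).imp (fun h => by rw [h, map_zero]) (fun h => by rw [h, map_one])

section ClosedIn

variable {K : Type v} [Field K] [Algebra k K]

theorem irreducible_map (hk : algebraicClosure k K = ⊥) {f : Polynomial k} (hf : f.Monic) (hirr : Irreducible f) :
    Irreducible (f.map (algebraMap k K)) := by
  have hint : ∀ x : K, IsIntegral k x → x ∈ (algebraMap k K).range := by
    intro x hx
    have : x ∈ algebraicClosure k K := mem_algebraicClosure_iff'.mpr hx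
    rw [hk, IntermediateField.mem_bot] at this
    exact this
  have hlift : ∀ g : Polynomial K, g.Monic → g ∣ f.map (algebraMap k K) →
      ∃ g₀ : Polynomial k, g₀.map (algebraMap k K) = g ∧ g₀.Monic := by
    intro g hg hdvd
    have h1 : g ∈ Polynomial.lifts (algebraMap (integralClosure k K) K) :=
      integralClosure.mem_lifts_of_monic_of_dvd_map K hf hg hdvd
    have h2 : g ∈ Polynomial.lifts (algebraMap k K) := by
      rw [Polynomial.lifts_iff_coeff_lifts] at h1 ⊢
      intro n
      obtain ⟨c, hc⟩ := h1 n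
      exact hint _ (hc ▸ c.2)
    obtain ⟨g₀, h3, -, h4⟩ := Polynomial.lifts_and_degree_eq_and_monic h2 hg
    exact ⟨g₀, h3, h4⟩
  rw [(hf.map _).irreducible_iff_natDegree]
  refine ⟨fun h => ?_, fun g h hg hh hgh => ?_⟩
  · exact hirr.not_isUnit (by rw [Polynomial.map_injective (algebraMap k K) (algebraMap k K).injective (h.trans (Polynomial.map_one _).symm)]; exact isUnit_one)
  obtain ⟨g₀, rfl, hg₀⟩ := hlift g hg (hgh ▸ dvd_mul_right _ _)
  obtain ⟨h₀, rfl, hh₀⟩ := hlift h hh (hgh ▸ dvd_mul_left _ _)
  rw [← Polynomial.map_mul] at hgh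
  have := Polynomial.map_injective (algebraMap k K) (algebraMap k K).injective hgh
  rw [Polynomial.natDegree_map, Polynomial.natDegree_map]
  exact ((hf.irreducible_iff_natDegree.mp hirr).2 g₀ h₀ hg₀ hh₀ this)

theorem trivIdem_tensor_separable (hk : algebraicClosure k K = ⊥) (L : Type w) [Field L] [Algebra k L]
    [FiniteDimensional k L] [Algebra.IsSeparable k L] : TrivIdem (K ⊗[k] L) := by
  obtain ⟨α, hα⟩ := Field.exists_primitive_element k L
  have hint : IsIntegral k α := Algebra.IsIntegral.isIntegral α
  haveI : Fact (Irreducible ((minpoly k α).map (algebraMap k K))) :=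
    ⟨irreducible_map hk (minpoly.monic hint) (minpoly.irreducible hint)⟩
  let ψ : AdjoinRoot ((minpoly k α).map (algebraMap k K)) →+* K ⊗[k] L :=
    AdjoinRoot.lift (Algebra.TensorProduct.includeLeftRingHom) (1 ⊗ₜ α) (by
      rw [Polynomial.eval₂_map, show (Algebra.TensorProduct.includeLeftRingHom : K →+* K ⊗[k] L).comp (algebraMap k K) =
        algebraMap k (K ⊗[k] L) from rfl, ← Polynomial.aeval_def,
        show (1 : K) ⊗ₜ[k] α = (Algebra.TensorProduct.includeRight : L →ₐ[k] K ⊗[k] L) α from rfl,
        Polynomial.aeval_algHom_apply, minpoly.aeval, map_zero])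
  have hsurj : Function.Surjective ψ := by
    intro z
    induction z using TensorProduct.induction_on with
    | zero => exact ⟨0, map_zero _⟩
    | add x y hx hy =>
      obtain ⟨a, rfl⟩ := hx; obtain ⟨b, rfl⟩ := hy
      exact ⟨a + b, map_add _ _ _⟩
    | tmul a l =>
      have hl : l ∈ Algebra.adjoin k {α} := by
        rw [← IntermediateField.adjoin_simple_toSubalgebra_of_isAlgebraic hint.isAlgebraic, hα]
        trivial
      have : (1 : K) ⊗ₜ[k] l ∈ ψ.range := by
        induction hl using Algebra.adjoin_induction with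
        | mem x hx =>
          rw [Set.mem_singleton_iff.mp hx]
          exact ⟨AdjoinRoot.root ((minpoly k α).map (algebraMap k K)), AdjoinRoot.lift_root _⟩
        | algebraMap r =>
          refine ⟨AdjoinRoot.of _ (algebraMap k K r), ?_⟩
          rw [AdjoinRoot.lift_of]
          simp [Algebra.algebraMap_eq_smul_one, TensorProduct.smul_tmul]
        | add x y _ _ hx hy => rw [TensorProduct.tmul_add]; exact add_mem hx hy
        | mul x y _ _ hx hy =>
          rw [show (1 : K) ⊗ₜ[k] (x * y) = (1 ⊗ₜ x) * (1 ⊗ₜ y) by simp]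
          exact mul_mem hx hy
      obtain ⟨c, hc⟩ := this
      exact ⟨AdjoinRoot.of _ a * c, by rw [map_mul, AdjoinRoot.lift_of, hc]; simp⟩
  haveI : Nontrivial (K ⊗[k] L) :=
    Algebra.TensorProduct.nontrivial_of_algebraMap_injective_of_flat_left (R := k) (A := K) (B := L) (algebraMap k L).injective
  have hinj : Function.Injective ψ := ψ.injective
  exact TrivIdem.of_injective (RingEquiv.ofBijective ψ ⟨hinj, hsurj⟩).symm.toRingHom
    (RingEquiv.injective _) (trivIdem_of_isDomain _)

theorem trivIdem_tensor_algebraicClosure (hk : algebraicClosure k K = ⊥) :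
    TrivIdem (K ⊗[k] AlgebraicClosure k) := by
  classical
  intro e he
  let Ω := AlgebraicClosure k
  obtain ⟨q, hq⟩ := ExpChar.exists k
  haveI : Nontrivial (K ⊗[k] Ω) :=
    Algebra.TensorProduct.nontrivial_of_algebraMap_injective_of_flat_left (R := k) (A := K) (B := Ω) (algebraMap k Ω).injective
  haveI : ExpChar (K ⊗[k] Ω) q := expChar_of_injective_algebraMap (algebraMap k _).injective q
  obtain ⟨S, hS⟩ := TensorProduct.exists_finset (R := k) e
  let E := separableClosure k Ω
  have hpi : ∀ x : Ω, ∃ n : ℕ, x ^ q ^ n ∈ E := fun x => by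
    haveI : ExpChar E q := expChar_of_injective_algebraMap (algebraMap k E).injective q
    haveI : IsPurelyInseparable E Ω := separableClosure.isPurelyInseparable k Ω
    obtain ⟨n, y, hy⟩ := IsPurelyInseparable.pow_mem E q x
    exact ⟨n, hy ▸ y.2⟩
  choose n hn using hpi
  let N := S.sup fun p => n p.2
  have hN : ∀ p ∈ S, p.2 ^ q ^ N ∈ E := fun p hp => by
    obtain ⟨d, hd⟩ := Nat.exists_eq_add_of_le (Finset.le_sup (f := fun p => n p.2) hp)
    rw [show N = n p.2 + d from hd, pow_add, pow_mul]
    exact pow_mem (hn p.2) _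
  let L := IntermediateField.adjoin k ((S.image fun p => p.2 ^ q ^ N : Finset Ω) : Set Ω)
  have hLE : L ≤ E := IntermediateField.adjoin_le_iff.mpr fun x hx => by
    obtain ⟨p, hp, rfl⟩ := Finset.mem_image.mp (Finset.mem_coe.mp hx)
    exact hN p hp
  haveI : Algebra.IsSeparable k L := (le_separableClosure_iff k Ω L).mp hLE
  haveI : FiniteDimensional k L := IntermediateField.finiteDimensional_adjoin
    (fun x _ => Algebra.IsIntegral.isIntegral x)
  let f : K ⊗[k] L →ₐ[k] K ⊗[k] Ω := Algebra.TensorProduct.map (AlgHom.id k K) L.val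
  have hf : Function.Injective f := fun x y hxy =>
    Module.Flat.lTensor_preserves_injective_linearMap (M := K) L.val.toLinearMap Subtype.val_injective hxy
  have hpow : e ^ q ^ N = e := by
    obtain ⟨m, hm⟩ : ∃ m, q ^ N = m + 1 := ⟨q ^ N - 1, (Nat.succ_pred_eq_of_pos (pow_pos (expChar_pos k q) N)).symm⟩
    rw [hm, he.pow_succ_eq]
  obtain ⟨z, rfl⟩ : ∃ z, f z = e := by
    refine ⟨∑ p ∈ S.attach, (p.1.1 ^ q ^ N) ⊗ₜ[k] ⟨p.1.2 ^ q ^ N, IntermediateField.subset_adjoin k _
      (Finset.mem_coe.mpr (Finset.mem_image.mpr ⟨p.1, p.2, rfl⟩))⟩, ?_⟩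
    rw [map_sum, ← hpow, hS, sum_pow_char_pow, ← Finset.sum_attach S (fun p => (p.1 ⊗ₜ[k] p.2) ^ q ^ N)]
    exact Finset.sum_congr rfl fun p _ => by simp [f, Algebra.TensorProduct.tmul_pow]
  have hz : IsIdempotentElem z := hf (by rw [map_mul]; exact he.eq)
  exact (trivIdem_tensor_separable hk L z hz).imp (fun h => by rw [h]; exact f.toRingHom.map_zero)
    (fun h => by rw [h]; exact f.toRingHom.map_one)

/-- `K ⊗ F` has only trivial idempotents when `k` is algebraically closed in `K`. -/
theorem trivIdem_tensor (hk : algebraicClosure k K = ⊥) (F : Type w) [Field F] [Algebra k F] :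
    TrivIdem (K ⊗[k] F) := by
  let F' := AlgebraicClosure F
  let Ω := AlgebraicClosure k
  let ι : Ω →ₐ[k] F' := IsAlgClosed.lift
  letI : Algebra Ω F' := ι.toRingHom.toAlgebra
  haveI : IsScalarTower k Ω F' := IsScalarTower.of_algebraMap_eq fun x => (ι.commutes x).symm
  have h1 : TrivIdem (Ω ⊗[k] K) := TrivIdem.of_injective (Algebra.TensorProduct.comm k Ω K).toAlgHom.toRingHom
    (AlgEquiv.injective _) (trivIdem_tensor_algebraicClosure hk)
  have h2 : TrivIdem (F' ⊗[Ω] (Ω ⊗[k] K)) := trivIdem_tensor_field h1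
  have h3 : TrivIdem (F' ⊗[k] K) := TrivIdem.of_injective
    (Algebra.TensorProduct.cancelBaseChange k Ω Ω F' K).symm.toAlgHom.toRingHom (AlgEquiv.injective _) h2
  let g : K ⊗[k] F →ₐ[k] K ⊗[k] F' := Algebra.TensorProduct.map (AlgHom.id k K) (IsScalarTower.toAlgHom k F F')
  have hg : Function.Injective g := fun x y hxy =>
    Module.Flat.lTensor_preserves_injective_linearMap (M := K) (IsScalarTower.toAlgHom k F F').toLinearMap
      (algebraMap F F').injective hxy
  exact TrivIdem.of_injective ((Algebra.TensorProduct.comm k K F').toAlgHom.comp g).toRingHom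
    ((Algebra.TensorProduct.comm k K F').injective.comp hg) h3

end ClosedIn

end ConnBC
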